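import Mathlib

/-!
# Definitions for S4221 (4-transitive groups whose 4-point stabilizer has odd order)

`FS G S` : the elements of `G ≤ Perm α` fixing the set `S` pointwise (a subgroup of `Perm α`).
`Trans4 G`, `Odd4 G`, `Cent G t`, `nfix t`, `VData`, `Preg`.
-/

set_option autoImplicit false
open Equiv

namespace Cfsg.Agent.Lib.Helper06.Hall4

variable {α : Type*}

/-- The elements of `G` fixing every point of `S`, as a subgroup of `Perm α`. -/
def FS (G : Subgroup (Perm α)) (S : Set α) : Subgroup (Perm α) where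
  carrier := {g | g ∈ G ∧ ∀ s ∈ S, g s = s}
  mul_mem' := by
    rintro g h ⟨hg, hg'⟩ ⟨hh, hh'⟩
    refine ⟨G.mul_mem hg hh, fun s hs => ?_⟩
    rw [Perm.mul_apply, hh' s hs, hg' s hs]
  one_mem' := ⟨G.one_mem, fun _ _ => rfl⟩
  inv_mem' := by
    rintro g ⟨hg, hg'⟩
    refine ⟨G.inv_mem hg, fun s hs => ?_⟩
    rw [Perm.inv_eq_iff_eq]
    exact (hg' s hs).symm

theorem mem_FS {G : Subgroup (Perm α)} {S : Set α} {g : Perm α} :
    g ∈ FS G S ↔ g ∈ G ∧ ∀ s ∈ S, g s = s := Iff.rfl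

theorem FS_le (G : Subgroup (Perm α)) (S : Set α) : FS G S ≤ G := fun _ h => h.1

/-- `G` is transitive on ordered quadruples of distinct points (pointwise form). -/
def Trans4 (G : Subgroup (Perm α)) : Prop :=
  ∀ a b c d a' b' c' d' : α, a ≠ b → a ≠ c → a ≠ d → b ≠ c → b ≠ d → c ≠ d →
    a' ≠ b' → a' ≠ c' → a' ≠ d' → b' ≠ c' → b' ≠ d' → c' ≠ d' →
    ∃ g ∈ G, g a = a' ∧ g b = b' ∧ g c = c' ∧ g d = d'

/-- Every pointwise stabilizer of four distinct points has odd order. -/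
def Odd4 (G : Subgroup (Perm α)) : Prop :=
  ∀ a b c d : α, a ≠ b → a ≠ c → a ≠ d → b ≠ c → b ≠ d → c ≠ d →
    Odd (Nat.card (FS G {a, b, c, d}))

/-- The centralizer of `t` in `G`. -/
def Cent (G : Subgroup (Perm α)) (t : Perm α) : Subgroup (Perm α) :=
  G ⊓ Subgroup.centralizer {t}

theorem mem_Cent {G : Subgroup (Perm α)} {t g : Perm α} :
    g ∈ Cent G t ↔ g ∈ G ∧ t * g = g * t := by
  unfold Cent
  rw [Subgroup.mem_inf, Subgroup.mem_centralizer_iff]
  simp

/-- The number of fixed points of `t`. -/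
noncomputable def nfix (t : Perm α) : ℕ := (Function.fixedPoints t).ncard

/-- The regular points of the four-group `⟨x, y⟩`: moved by `x`, by `y` and by `x * y`. -/
def Preg (x y : Perm α) : Set α := {j | x j ≠ j ∧ y j ≠ j ∧ x (y j) ≠ j}

theorem mem_Preg {x y : Perm α} {j : α} :
    j ∈ Preg x y ↔ x j ≠ j ∧ y j ≠ j ∧ x (y j) ≠ j := Iff.rfl

/-- Commuting involutions `x = (a)(b)(c d)…`, `y = (a b)(c)(d)…` of `G`. -/
structure VData (G : Subgroup (Perm α)) (a b c d : α) (x y : Perm α) : Prop where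
  hab : a ≠ b
  hac : a ≠ c
  had : a ≠ d
  hbc : b ≠ c
  hbd : b ≠ d
  hcd : c ≠ d
  hx : x ∈ G
  hy : y ∈ G
  x2 : x * x = 1
  y2 : y * y = 1
  comm : x * y = y * x
  xa : x a = a
  xb : x b = b
  xc : x c = d
  xd : x d = c
  ya : y a = b
  yb : y b = a
  yc : y c = c
  yd : y d = d

section general
variable {Γ : Type*} [Group Γ]

theorem mem_centralizer_one {x g : Γ} :
    g ∈ Subgroup.centralizer ({x} : Set Γ) ↔ x * g = g * x := by
  rw [Subgroup.mem_centralizer_iff]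
  simp

theorem mem_centralizer_pair {x y g : Γ} :
    g ∈ Subgroup.centralizer ({x, y} : Set Γ) ↔ x * g = g * x ∧ y * g = g * y := by
  rw [Subgroup.mem_centralizer_iff]
  simp

/-- The elements `s` of the coset `x H` with `s * s = 1`. -/
def InvCoset (x : Γ) (H : Subgroup Γ) : Set Γ := {s | x⁻¹ * s ∈ H ∧ s * s = 1}

theorem mem_InvCoset {x s : Γ} {H : Subgroup Γ} :
    s ∈ InvCoset x H ↔ x⁻¹ * s ∈ H ∧ s * s = 1 := Iff.rfl

end general

end Cfsg.Agent.Lib.Helper06.Hall4
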