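import Cfsg.Agent.Lib.Helper06.Hall4.Defs

/-! Conjugation invariance of `nfix` and of `|Cent G t|` (leaf CJ2 of the K-H4 pack). -/

set_option autoImplicit false
open Equiv

namespace Cfsg.Agent.Lib.Helper06.Hall4

variable {α : Type*} [Fintype α] [DecidableEq α]

theorem nfix_conj (g t : Perm α) : nfix (g * t * g⁻¹) = nfix t := by
  unfold nfix
  have : Function.fixedPoints (g * t * g⁻¹) = g '' Function.fixedPoints t := by
    ext j
    simp only [Function.mem_fixedPoints, Function.IsFixedPt, Perm.mul_apply, Set.mem_image]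
    constructor
    · intro h
      refine ⟨g⁻¹ j, ?_, by simp⟩
      apply g.injective
      rw [h]; simp
    · rintro ⟨k, hk, rfl⟩
      simp [hk]
  rw [this, Set.ncard_image_of_injective _ g.injective]

theorem card_Cent_conj (G : Subgroup (Perm α)) {g : Perm α} (hg : g ∈ G) (t : Perm α) :
    Nat.card (Cent G (g * t * g⁻¹)) = Nat.card (Cent G t) := by
  apply Nat.card_congr
  refine ⟨fun h => ⟨g⁻¹ * h.1 * g, ?_⟩, fun h => ⟨g * h.1 * g⁻¹, ?_⟩, ?_, ?_⟩
  · obtain ⟨h1, h2⟩ := mem_Cent.mp h.2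
    refine mem_Cent.mpr ⟨G.mul_mem (G.mul_mem (G.inv_mem hg) h1) hg, ?_⟩
    have : t = g⁻¹ * (g * t * g⁻¹) * g := by group
    calc t * (g⁻¹ * h.1 * g) = g⁻¹ * ((g * t * g⁻¹) * h.1) * g := by group
      _ = g⁻¹ * (h.1 * (g * t * g⁻¹)) * g := by rw [h2]
      _ = g⁻¹ * h.1 * g * t := by group
  · obtain ⟨h1, h2⟩ := mem_Cent.mp h.2
    refine mem_Cent.mpr ⟨G.mul_mem (G.mul_mem hg h1) (G.inv_mem hg), ?_⟩
    calc g * t * g⁻¹ * (g * h.1 * g⁻¹) = g * (t * h.1) * g⁻¹ := by group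
      _ = g * (h.1 * t) * g⁻¹ := by rw [h2]
      _ = g * h.1 * g⁻¹ * (g * t * g⁻¹) := by group
  · intro h
    apply Subtype.ext
    show g * (g⁻¹ * h.1 * g) * g⁻¹ = h.1
    group
  · intro h
    apply Subtype.ext
    show g⁻¹ * (g * h.1 * g⁻¹) * g = h.1
    group

end Cfsg.Agent.Lib.Helper06.Hall4
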