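import Cfsg.Agent.Lib.Helper06.Hall4.Defs
import Cfsg.Agent.Lib.Helper06.Hall4.CJ2
import Cfsg.Agent.Lib.Helper03.H4A2
import Cfsg.Agent.Lib.Helper03.H4B2
import Cfsg.Agent.Lib.Helper04.H4BR1
import Cfsg.Agent.Lib.Helper23.H4P3
import Cfsg.Agent.Lib.Helper32.H4V
import Cfsg.Agent.Lib.Helper40.H4EV
import Cfsg.Agent.Lib.Helper48.H4RG
import Cfsg.Agent.Lib.Helper52.H4TR
import Cfsg.Agent.Lib.Helper59.H4TR2
import Cfsg.Agent.Lib.Helper62.H4D2b
import Cfsg.Agent.Lib.Helper63.H4D2a
import Cfsg.Agent.Lib.Helper68.H4A1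
import Cfsg.Agent.Lib.Helper70.H4DV
import Cfsg.Agent.Lib.Helper74.H4IX
import Cfsg.Agent.Lib.Helper79.H4AR
import Cfsg.Agent.Lib.Helper79.H4CJ
import Cfsg.Agent.Lib.Helper81.H4D1
import Cfsg.Agent.Lib.Helper82.H4BR3
import Cfsg.Agent.Lib.Helper87.H4BWdX
import Cfsg.Agent.Lib.Helper90.H4B1
import Cfsg.Agent.Lib.Helper97.H4BR2

/-!
# S4221 glue: 4-transitive groups with odd 4-point stabilizers (M. Hall)

Assembles the K-H4 keystone pack (spec: `notes/S4221_keystones.lean.txt`).
-/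

set_option autoImplicit false
open Equiv

namespace Cfsg.Agent.Lib.Helper06.Hall4

variable {α : Type*} [Fintype α] [DecidableEq α]

theorem four_le_card_of_emb (x : Fin 4 ↪ α) : 4 ≤ Fintype.card α := by
  have := Fintype.card_le_of_embedding x
  simpa using this

theorem prod_pos_of_four_le {n : ℕ} (hn : 4 ≤ n) : 0 < n * (n - 1) * (n - 2) * (n - 3) := by
  have h1 : 0 < n := by omega
  have h2 : 0 < n - 1 := by omega
  have h3 : 0 < n - 2 := by omega
  have h4 : 0 < n - 3 := by omega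
  positivity

/-- L1: all 4-point stabilizers have the same (odd) order. -/
theorem odd4_of (G : Subgroup (Perm α)) (hG : MulAction.IsMultiplyPretransitive G α 4)
    (x : Fin 4 ↪ α) (hodd : Odd (Nat.card (MulAction.stabilizer G x))) : Odd4 G := by
  intro a b c d hab hac had hbc hbd hcd
  have hn := four_le_card_of_emb x
  have h01 : x 0 ≠ x 1 := x.injective.ne (by decide)
  have h02 : x 0 ≠ x 2 := x.injective.ne (by decide)
  have h03 : x 0 ≠ x 3 := x.injective.ne (by decide)
  have h12 : x 1 ≠ x 2 := x.injective.ne (by decide)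
  have h13 : x 1 ≠ x 3 := x.injective.ne (by decide)
  have h23 : x 2 ≠ x 3 := x.injective.ne (by decide)
  have e1 := Cfsg.Agent.Lib.Helper82.Hall4.card_eq_mul_FS G hG h01 h02 h03 h12 h13 h23
  have e2 := Cfsg.Agent.Lib.Helper82.Hall4.card_eq_mul_FS G hG hab hac had hbc hbd hcd
  rw [e1] at e2
  have := Nat.eq_of_mul_eq_mul_left (prod_pos_of_four_le hn) e2
  rw [← this, ← Cfsg.Agent.Lib.Helper97.Hall4.card_stabilizer_eq]
  exact hodd

set_option linter.unusedSectionVars false
set_option linter.unusedVariables false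

theorem VData.z2 {G : Subgroup (Perm α)} {a b c d : α} {x y : Perm α}
    (hV : VData G a b c d x y) : (x * y) * (x * y) = 1 := by
  calc (x * y) * (x * y) = x * (y * x) * y := by group
    _ = x * (x * y) * y := by rw [hV.comm]
    _ = (x * x) * (y * y) := by group
    _ = 1 := by rw [hV.x2, hV.y2, one_mul]

theorem VData.hz {G : Subgroup (Perm α)} {a b c d : α} {x y : Perm α}
    (hV : VData G a b c d x y) : x * y ∈ G := G.mul_mem hV.hx hV.hy

theorem VData.za {G : Subgroup (Perm α)} {a b c d : α} {x y : Perm α}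
    (hV : VData G a b c d x y) : (x * y) a = b := by
  rw [Perm.mul_apply, hV.ya, hV.xb]

theorem VData.zc {G : Subgroup (Perm α)} {a b c d : α} {x y : Perm α}
    (hV : VData G a b c d x y) : (x * y) c = d := by
  rw [Perm.mul_apply, hV.yc, hV.xc]

theorem VData.x_ne_one {G : Subgroup (Perm α)} {a b c d : α} {x y : Perm α}
    (hV : VData G a b c d x y) : x ≠ 1 := by
  intro h
  have := hV.xc
  rw [h] at this
  exact hV.hcd this

theorem VData.y_ne_one {G : Subgroup (Perm α)} {a b c d : α} {x y : Perm α}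
    (hV : VData G a b c d x y) : y ≠ 1 := by
  intro h
  have := hV.ya
  rw [h] at this
  exact hV.hab this

theorem VData.z_ne_one {G : Subgroup (Perm α)} {a b c d : α} {x y : Perm α}
    (hV : VData G a b c d x y) : x * y ≠ 1 := by
  intro h
  have := hV.za
  rw [h] at this
  exact hV.hab this

theorem two_le_nfix {t : Perm α} {a b : α} (hab : a ≠ b) (ha : t a = a) (hb : t b = b) :
    2 ≤ nfix t := by
  unfold nfix
  have hsub : ({a, b} : Set α) ⊆ Function.fixedPoints t := by
    intro j hj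
    rcases hj with rfl | rfl
    · exact ha
    · exact hb
  have := Set.ncard_le_ncard hsub (Set.toFinite _)
  rwa [Set.ncard_pair hab] at this

/-- L2: the equations for `{a,b,c,d}`. -/
theorem eqs_abcd (G : Subgroup (Perm α)) (hT : Trans4 G) (hO : Odd4 G)
    (hn : 7 ≤ Fintype.card α) {a b c d : α} {x y : Perm α} (hV : VData G a b c d x y) :
    ∃ f C : ℕ, (f = 2 ∨ f = 3) ∧ nfix x = f ∧ nfix y = f ∧ nfix (x * y) = f ∧
      Nat.card (Cent G x) = C ∧ Nat.card (Cent G y) = C ∧ Nat.card (Cent G (x * y)) = C ∧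
      C = f * (f - 1) * (Fintype.card α - f) *
        Nat.card (FS G {a, b, c, d} ⊓ Subgroup.centralizer {x} : Subgroup (Perm α)) ∧
      C = f * (f - 1) * (Fintype.card α - f) *
        Nat.card (FS G {a, b, c, d} ⊓ Subgroup.centralizer {y} : Subgroup (Perm α)) ∧
      C = (Fintype.card α - f) * (Fintype.card α - f - 2) *
        Nat.card (FS G {a, b, c, d} ⊓ Subgroup.centralizer {x * y} : Subgroup (Perm α)) := by
  obtain ⟨g1, hg1, hg1c⟩ := Cfsg.Agent.Lib.Helper79.Hall4.conj_invol G hT hO hn hV.hx hV.hy hV.x2 hV.y2 hV.x_ne_one hV.y_ne_one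
  obtain ⟨g2, hg2, hg2c⟩ := Cfsg.Agent.Lib.Helper79.Hall4.conj_invol G hT hO hn hV.hx hV.hz hV.x2 hV.z2 hV.x_ne_one hV.z_ne_one
  have hfy : nfix y = nfix x := by rw [← hg1c, nfix_conj]
  have hfz : nfix (x * y) = nfix x := by rw [← hg2c, nfix_conj]
  have hCy : Nat.card (Cent G y) = Nat.card (Cent G x) := by rw [← hg1c, card_Cent_conj G hg1]
  have hCz : Nat.card (Cent G (x * y)) = Nat.card (Cent G x) := by
    rw [← hg2c, card_Cent_conj G hg2]
  have hf3 : nfix x ≤ 3 := Cfsg.Agent.Lib.Helper23.Hall4.nfix_le_three G hO hV.hx hV.x2 hV.x_ne_one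
  have hf2 : 2 ≤ nfix x := two_le_nfix hV.hab hV.xa hV.xb
  refine ⟨nfix x, Nat.card (Cent G x), by omega, rfl, hfy, hfz, rfl, hCy, hCz, ?_, ?_, ?_⟩
  · -- (B) for x
    have hxc : x c ≠ c := by rw [hV.xc]; exact hV.hcd.symm
    have := Cfsg.Agent.Lib.Helper03.Hall4.card_cent_fix_fix G hV.x2 hV.xa hV.xb hV.hab hxc
      (fun r r' m hr hr' hrr' hm =>
        Cfsg.Agent.Lib.Helper90.Hall4.cent_trans_fix_fix G hT hO hV.hx hV.x2 hV.xa hV.xb hV.hab hxc hr hr' hrr' hm)
    rw [hV.xc] at this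
    exact this
  · -- (B) for y
    have hya : y a ≠ a := by rw [hV.ya]; exact hV.hab.symm
    have := Cfsg.Agent.Lib.Helper03.Hall4.card_cent_fix_fix G hV.y2 hV.yc hV.yd hV.hcd hya
      (fun r r' m hr hr' hrr' hm =>
        Cfsg.Agent.Lib.Helper90.Hall4.cent_trans_fix_fix G hT hO hV.hy hV.y2 hV.yc hV.yd hV.hcd hya hr hr' hrr' hm)
    rw [hV.ya] at this
    have hset : ({c, d, a, b} : Set α) = {a, b, c, d} := by
      ext j; simp only [Set.mem_insert_iff, Set.mem_singleton_iff]; tauto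
    rw [hset, hCy, hfy] at this
    exact this
  · -- (A) for z
    have hza : (x * y) a ≠ a := by rw [hV.za]; exact hV.hab.symm
    have hzc : (x * y) c ≠ c := by rw [hV.zc]; exact hV.hcd.symm
    have hcza : c ≠ (x * y) a := by rw [hV.za]; exact hV.hbc.symm
    have := Cfsg.Agent.Lib.Helper03.Hall4.card_cent_two_cycles G hV.z2 hza hzc hV.hac.symm hcza
      (fun p q hp hq hqp hqtp =>
        Cfsg.Agent.Lib.Helper68.Hall4.cent_trans_pairs G hT hO hV.hz hV.z2 hza hzc hV.hac.symm hcza hp hq hqp hqtp)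
    rw [hV.za, hV.zc, hCz, hfz] at this
    exact this

theorem inv_eq_self_of_sq {t : Perm α} (t2 : t * t = 1) : t⁻¹ = t :=
  inv_eq_of_mul_eq_one_left t2

theorem apply_apply_of_sq {t : Perm α} (t2 : t * t = 1) (j : α) : t (t j) = j := by
  have := congrArg (fun p : Perm α => p j) t2
  simpa using this

theorem comm_apply {x y : Perm α} (comm : x * y = y * x) (j : α) : x (y j) = y (x j) := by
  have := congrArg (fun p : Perm α => p j) comm
  simpa using this

/-- L3: the equations for `R = {i, x i, y i, x (y i)}`. -/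
theorem eqs_R (G : Subgroup (Perm α)) (hT : Trans4 G) (hO : Odd4 G)
    {a b c d : α} {x y : Perm α} (hV : VData G a b c d x y) {i : α} (hi : i ∈ Preg x y) :
    Nat.card (Cent G x) = (Fintype.card α - nfix x) * (Fintype.card α - nfix x - 2) *
      Nat.card (FS G {i, x i, y i, x (y i)} ⊓ Subgroup.centralizer {x} : Subgroup (Perm α)) ∧
    Nat.card (Cent G y) = (Fintype.card α - nfix y) * (Fintype.card α - nfix y - 2) *
      Nat.card (FS G {i, x i, y i, x (y i)} ⊓ Subgroup.centralizer {y} : Subgroup (Perm α)) ∧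
    Nat.card (Cent G (x * y)) =
      (Fintype.card α - nfix (x * y)) * (Fintype.card α - nfix (x * y) - 2) *
      Nat.card (FS G {i, x i, y i, x (y i)} ⊓ Subgroup.centralizer {x * y} :
        Subgroup (Perm α)) := by
  obtain ⟨hxi, hyi, hzi⟩ := hi
  have xx := apply_apply_of_sq hV.x2
  have yy := apply_apply_of_sq hV.y2
  have cm := comm_apply hV.comm
  -- basic distinctness
  have h1 : x (y i) ≠ y i := by
    intro h
    rw [cm] at h
    exact hxi (y.injective h)
  have h2 : y i ≠ x i := by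
    intro h
    apply hzi
    rw [h, xx]
  have h3 : y (x i) ≠ x i := by
    intro h
    rw [← cm] at h
    exact hyi (x.injective h)
  refine ⟨?_, ?_, ?_⟩
  · exact Cfsg.Agent.Lib.Helper03.Hall4.card_cent_two_cycles G hV.x2 hxi h1 hyi h2
      (fun p q hp hq hqp hqtp =>
        Cfsg.Agent.Lib.Helper68.Hall4.cent_trans_pairs G hT hO hV.hx hV.x2 hxi h1 hyi h2 hp hq hqp hqtp)
  · have := Cfsg.Agent.Lib.Helper03.Hall4.card_cent_two_cycles G hV.y2 hyi h3 hxi h2.symm
      (fun p q hp hq hqp hqtp =>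
        Cfsg.Agent.Lib.Helper68.Hall4.cent_trans_pairs G hT hO hV.hy hV.y2 hyi h3 hxi h2.symm hp hq hqp hqtp)
    have hset : ({i, y i, x i, y (x i)} : Set α) = {i, x i, y i, x (y i)} := by
      rw [← cm]
      ext j; simp only [Set.mem_insert_iff, Set.mem_singleton_iff]; tauto
    rw [hset] at this
    exact this
  · have hz1 : (x * y) i ≠ i := by rw [Perm.mul_apply]; exact hzi
    have hz2 : (x * y) (x i) ≠ x i := by
      rw [Perm.mul_apply, ← cm, xx]
      exact h2
    have hz3 : x i ≠ (x * y) i := by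
      rw [Perm.mul_apply]
      intro h
      exact hyi (x.injective h).symm
    have := Cfsg.Agent.Lib.Helper03.Hall4.card_cent_two_cycles G hV.z2 hz1 hz2 hxi hz3
      (fun p q hp hq hqp hqtp =>
        Cfsg.Agent.Lib.Helper68.Hall4.cent_trans_pairs G hT hO hV.hz hV.z2 hz1 hz2 hxi hz3 hp hq hqp hqtp)
    have e1 : (x * y) i = x (y i) := rfl
    have e2 : (x * y) (x i) = y i := by rw [Perm.mul_apply, ← cm, xx]
    rw [e1, e2] at this
    have hset : ({i, x (y i), x i, y i} : Set α) = {i, x i, y i, x (y i)} := by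
      ext j; simp only [Set.mem_insert_iff, Set.mem_singleton_iff]; tauto
    rw [hset] at this
    exact this

/-- L4: Brauer-Wielandt for `FS G S`, `S` stable under `x` and `y`. -/
theorem bw_FS (G : Subgroup (Perm α)) (S : Set α) {x y : Perm α} (hx : x ∈ G) (hy : y ∈ G)
    (x2 : x * x = 1) (y2 : y * y = 1) (comm : x * y = y * x)
    (hxS : ∀ s ∈ S, x s ∈ S) (hyS : ∀ s ∈ S, y s ∈ S) (hodd : Odd (Nat.card (FS G S))) :
    Nat.card (FS G S) * Nat.card (FS G S ⊓ Subgroup.centralizer {x, y} : Subgroup (Perm α)) ^ 2 =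
      Nat.card (FS G S ⊓ Subgroup.centralizer {x} : Subgroup (Perm α)) *
        Nat.card (FS G S ⊓ Subgroup.centralizer {y} : Subgroup (Perm α)) *
        Nat.card (FS G S ⊓ Subgroup.centralizer {x * y} : Subgroup (Perm α)) := by
  have key : ∀ t : Perm α, t ∈ G → t * t = 1 → (∀ s ∈ S, t s ∈ S) →
      ∀ g ∈ FS G S, t * g * t⁻¹ ∈ FS G S := by
    intro t ht t2 htS g hg
    refine ⟨G.mul_mem (G.mul_mem ht hg.1) (G.inv_mem ht), fun s hs => ?_⟩
    rw [inv_eq_self_of_sq t2, Perm.mul_apply, Perm.mul_apply, hg.2 _ (htS s hs),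
      apply_apply_of_sq t2]
  exact Cfsg.Agent.Lib.Helper87.Hall4.brauer_wielandt (FS G S) hodd x2 y2 comm (key x hx x2 hxS) (key y hy y2 hyS)

theorem card_FS_eq (G : Subgroup (Perm α)) (hG : MulAction.IsMultiplyPretransitive G α 4)
    (hn : 4 ≤ Fintype.card α) {a b c d a' b' c' d' : α}
    (hab : a ≠ b) (hac : a ≠ c) (had : a ≠ d) (hbc : b ≠ c) (hbd : b ≠ d) (hcd : c ≠ d)
    (hab' : a' ≠ b') (hac' : a' ≠ c') (had' : a' ≠ d') (hbc' : b' ≠ c') (hbd' : b' ≠ d')
    (hcd' : c' ≠ d') :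
    Nat.card (FS G {a, b, c, d}) = Nat.card (FS G {a', b', c', d'}) := by
  have e1 := Cfsg.Agent.Lib.Helper82.Hall4.card_eq_mul_FS G hG hab hac had hbc hbd hcd
  have e2 := Cfsg.Agent.Lib.Helper82.Hall4.card_eq_mul_FS G hG hab' hac' had' hbc' hbd' hcd'
  rw [e1] at e2
  exact Nat.eq_of_mul_eq_mul_left (prod_pos_of_four_le hn) e2

theorem cube_lemma (c : ℕ) (hodd : Odd c) (h : c ^ 3 ∣ 5040) : c = 1 := by
  have hle : c ^ 3 ≤ 5040 := Nat.le_of_dvd (by norm_num) h
  have hc : c ≤ 17 := by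
    by_contra hcon
    push_neg at hcon
    have : 18 ^ 3 ≤ c ^ 3 := Nat.pow_le_pow_left hcon 3
    omega
  interval_cases c <;> first | rfl | (exfalso; revert hodd; decide) | (exfalso; revert h; decide)

/-- L5: the case `n ≥ 8`. -/
theorem main_ge_eight (G : Subgroup (Perm α)) (hG : MulAction.IsMultiplyPretransitive G α 4)
    (hT : Trans4 G) (hO : Odd4 G) (hn : 8 ≤ Fintype.card α) {a b c d : α}
    (hab : a ≠ b) (hac : a ≠ c) (had : a ≠ d) (hbc : b ≠ c) (hbd : b ≠ d) (hcd : c ≠ d) :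
    Fintype.card α = 11 ∧ Nat.card (FS G {a, b, c, d}) = 1 := by
  obtain ⟨x, y, hV⟩ := Cfsg.Agent.Lib.Helper32.Hall4.exists_vdata G hT hO hab hac had hbc hbd hcd
  obtain ⟨f, C, hf, hfx, hfy, hfz, hCx, hCy, hCz, e1, e2, e3⟩ :=
    eqs_abcd G hT hO (by omega) hV
  have hf3 : f ≤ 3 := by omega
  have hRG := Cfsg.Agent.Lib.Helper48.Hall4.ncard_Preg G hV hf3 hfx hfy hfz
  have hN : 5 ≤ Fintype.card α - f := by omega
  have hPreg : (Preg x y).ncard = Fintype.card α - f - 4 := by omega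
  have hne : (Preg x y).Nonempty := by
    apply Set.nonempty_of_ncard_ne_zero
    omega
  obtain ⟨i, hi⟩ := hne
  obtain ⟨r1, r2, r3⟩ := eqs_R G hT hO hV hi
  rw [hfx, hCx] at r1
  rw [hfy, hCy] at r2
  rw [hfz, hCz] at r3
  have hD1 := Cfsg.Agent.Lib.Helper81.Hall4.card_D_eq_four_mul G hV (by omega) (by omega)
  have hD2 := Cfsg.Agent.Lib.Helper62.Hall4.card_D_eq_reg_mul G hV.x2 hV.y2 hV.comm hi
    (fun j hj => Cfsg.Agent.Lib.Helper63.Hall4.D_trans_reg G hT hO hV.hx hV.hy hV.x2 hV.y2 hV.comm hi hj)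
  have xx := apply_apply_of_sq hV.x2
  have yy := apply_apply_of_sq hV.y2
  have cm := comm_apply hV.comm
  -- stability of the two 4-sets
  have hS1 : ∀ s ∈ ({a, b, c, d} : Set α), x s ∈ ({a, b, c, d} : Set α) := by
    intro s hs
    simp only [Set.mem_insert_iff, Set.mem_singleton_iff] at hs ⊢
    rcases hs with rfl | rfl | rfl | rfl
    · left; exact hV.xa
    · right; left; exact hV.xb
    · right; right; right; exact hV.xc
    · right; right; left; exact hV.xd
  have hS2 : ∀ s ∈ ({a, b, c, d} : Set α), y s ∈ ({a, b, c, d} : Set α) := by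
    intro s hs
    simp only [Set.mem_insert_iff, Set.mem_singleton_iff] at hs ⊢
    rcases hs with rfl | rfl | rfl | rfl
    · right; left; exact hV.ya
    · left; exact hV.yb
    · right; right; left; exact hV.yc
    · right; right; right; exact hV.yd
  have hR1 : ∀ s ∈ ({i, x i, y i, x (y i)} : Set α), x s ∈ ({i, x i, y i, x (y i)} : Set α) := by
    intro s hs
    simp only [Set.mem_insert_iff, Set.mem_singleton_iff] at hs ⊢
    rcases hs with rfl | rfl | rfl | rfl
    · right; left; rfl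
    · left; exact xx _
    · right; right; right; rfl
    · right; right; left; exact xx _
  have hR2 : ∀ s ∈ ({i, x i, y i, x (y i)} : Set α), y s ∈ ({i, x i, y i, x (y i)} : Set α) := by
    intro s hs
    simp only [Set.mem_insert_iff, Set.mem_singleton_iff] at hs ⊢
    rcases hs with rfl | rfl | rfl | rfl
    · right; right; left; rfl
    · right; right; right; exact (cm _).symm
    · left; exact yy _
    · right; left; rw [← cm, yy]
  -- distinctness of R
  obtain ⟨hxi, hyi, hzi⟩ := hi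
  have d1 : i ≠ x i := fun h => hxi h.symm
  have d2 : i ≠ y i := fun h => hyi h.symm
  have d3 : i ≠ x (y i) := fun h => hzi h.symm
  have d4 : x i ≠ y i := by
    intro h
    apply hzi
    rw [← h, xx]
  have d5 : x i ≠ x (y i) := fun h => d2 (x.injective h)
  have d6 : y i ≠ x (y i) := by
    intro h
    rw [cm] at h
    exact d1 (y.injective h)
  have hi : i ∈ Preg x y := ⟨hxi, hyi, hzi⟩
  have hn4 : 4 ≤ Fintype.card α := by omega
  have hhR : Nat.card (FS G {i, x i, y i, x (y i)}) = Nat.card (FS G {a, b, c, d}) :=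
    card_FS_eq G hG hn4 d1 d2 d3 d4 d5 d6 hab hac had hbc hbd hcd
  have hoddH := hO a b c d hab hac had hbc hbd hcd
  have hoddR := hO _ _ _ _ d1 d2 d3 d4 d5 d6
  have e8 := bw_FS G {a, b, c, d} hV.hx hV.hy hV.x2 hV.y2 hV.comm hS1 hS2 hoddH
  have e9 := bw_FS G {i, x i, y i, x (y i)} hV.hx hV.hy hV.x2 hV.y2 hV.comm hR1 hR2 hoddR
  rw [hhR] at e9
  have e7 : 4 * Nat.card (FS G {a, b, c, d} ⊓ Subgroup.centralizer {x, y} : Subgroup (Perm α)) =
      (Fintype.card α - f - 4) *
        Nat.card (FS G {i, x i, y i, x (y i)} ⊓ Subgroup.centralizer {x, y} :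
          Subgroup (Perm α)) := by
    rw [← hD1, hD2, hPreg]
  obtain ⟨hf3', hN8, hc0, hcx, hcy⟩ := Cfsg.Agent.Lib.Helper79.Hall4.arith_main f (Fintype.card α - f) _ _ _ _ _ _ _ _ _ C hf hN
    Nat.card_pos Nat.card_pos Nat.card_pos Nat.card_pos Nat.card_pos e1 e2 e3 r1 r2 r3 e7 e8 e9
  have hn11 : Fintype.card α = 11 := by omega
  refine ⟨hn11, ?_⟩
  -- c0' = 1
  have hP4 : (Preg x y).ncard = 4 := by omega
  have hPR := Cfsg.Agent.Lib.Helper59.Hall4.Preg_eq_of_ncard hV.x2 hV.y2 hV.comm hi hP4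
  have hbot : (FS G {i, x i, y i, x (y i)} ⊓ Subgroup.centralizer {x, y} : Subgroup (Perm α))
      = ⊥ := by
    rw [Subgroup.eq_bot_iff_forall]
    intro e he
    obtain ⟨he1, he2⟩ := Subgroup.mem_inf.mp he
    obtain ⟨hex, hey⟩ := mem_centralizer_pair.mp he2
    have hek : e ^ Nat.card (FS G {i, x i, y i, x (y i)}) = 1 := by
      have h1 : (⟨e, he1⟩ : FS G {i, x i, y i, x (y i)}) ^
          Nat.card (FS G {i, x i, y i, x (y i)}) = 1 := pow_card_eq_one'
      have h2 := congrArg Subtype.val h1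
      rw [Subgroup.coe_pow] at h2
      exact h2
    refine Cfsg.Agent.Lib.Helper52.Hall4.eq_one_of_fix_reg G hV (by omega) (by omega) (by omega) hoddR hek hex hey ?_
    intro j hj
    rw [hPR] at hj
    exact he1.2 j hj
  have hc0' : Nat.card (FS G {i, x i, y i, x (y i)} ⊓ Subgroup.centralizer {x, y} :
      Subgroup (Perm α)) = 1 := by
    rw [hbot]
    exact Subgroup.card_bot
  rw [hc0'] at hc0
  rw [hc0, hcx, hcy] at e8
  have hdv := Cfsg.Agent.Lib.Helper70.Hall4.card_FS_dvd_factorial G hab hac had hbc hbd hcd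
  rw [hn11] at hdv
  have h5040 : (11 - 4).factorial = 5040 := by decide
  rw [h5040] at hdv
  have hczdvd : Nat.card (FS G {a, b, c, d} ⊓ Subgroup.centralizer {x * y} : Subgroup (Perm α)) ∣
      Nat.card (FS G {a, b, c, d}) := Subgroup.card_dvd_of_le inf_le_left
  have hczodd : Odd (Nat.card (FS G {a, b, c, d} ⊓ Subgroup.centralizer {x * y} :
      Subgroup (Perm α))) := by
    obtain ⟨m, hm⟩ := hczdvd
    rw [hm] at hoddH
    exact (Nat.odd_mul.mp hoddH).1
  have hcube : Nat.card (FS G {a, b, c, d}) =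
      Nat.card (FS G {a, b, c, d} ⊓ Subgroup.centralizer {x * y} : Subgroup (Perm α)) ^ 3 := by
    have e8' := e8
    rw [one_pow, mul_one] at e8'
    rw [e8']; ring
  rw [hcube] at hdv
  have := cube_lemma _ hczodd hdv
  rw [hcube, this]
  norm_num

/-- The case `n = 7`: `3 ∣ h`. -/
theorem three_dvd_of_seven (G : Subgroup (Perm α)) (hT : Trans4 G) (hO : Odd4 G)
    (hn : Fintype.card α = 7) {a b c d : α}
    (hab : a ≠ b) (hac : a ≠ c) (had : a ≠ d) (hbc : b ≠ c) (hbd : b ≠ d) (hcd : c ≠ d) :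
    3 ∣ Nat.card (FS G {a, b, c, d}) := by
  obtain ⟨x, y, hV⟩ := Cfsg.Agent.Lib.Helper32.Hall4.exists_vdata G hT hO hab hac had hbc hbd hcd
  obtain ⟨f, C, hf, hfx, hfy, hfz, hCx, hCy, hCz, e1, e2, e3⟩ :=
    eqs_abcd G hT hO (by omega) hV
  have hev := Cfsg.Agent.Lib.Helper40.Hall4.even_moved x hV.x2
  rw [hfx, hn] at hev
  have hf3 : f = 3 := by
    rcases hf with rfl | rfl
    · exfalso; revert hev; decide
    · rfl
  subst hf3
  rw [hn] at e1 e3
  have hczdvd : Nat.card (FS G {a, b, c, d} ⊓ Subgroup.centralizer {x * y} : Subgroup (Perm α)) ∣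
      Nat.card (FS G {a, b, c, d}) := Subgroup.card_dvd_of_le inf_le_left
  have h3 : Nat.card (FS G {a, b, c, d} ⊓ Subgroup.centralizer {x * y} : Subgroup (Perm α)) =
      3 * Nat.card (FS G {a, b, c, d} ⊓ Subgroup.centralizer {x} : Subgroup (Perm α)) := by
    omega
  exact Dvd.dvd.trans ⟨_, h3⟩ hczdvd

theorem odd_dvd_two {h : ℕ} (hodd : Odd h) (hd : h ∣ 2) : h = 1 := by
  have hle : h ≤ 2 := Nat.le_of_dvd (by norm_num) hd
  interval_cases h
  · simp at hd
  · rfl
  · exfalso; revert hodd; decide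

theorem odd_dvd_six {h : ℕ} (hodd : Odd h) (hd : h ∣ 6) (h3 : 3 ∣ h) : h = 3 := by
  have hle : h ≤ 6 := Nat.le_of_dvd (by norm_num) hd
  interval_cases h
  · simp at hd
  · exfalso; revert h3; decide
  · exfalso; revert hodd; decide
  · rfl
  · exfalso; revert hodd; decide
  · exfalso; revert h3; decide
  · exfalso; revert hodd; decide

/-- L6: the final statement. -/
theorem main (G : Subgroup (Perm α)) (hG : MulAction.IsMultiplyPretransitive G α 4)
    (x : Fin 4 ↪ α) (hodd : Odd (Nat.card (MulAction.stabilizer G x))) :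
    ((Fintype.card α = 4 ∨ Fintype.card α = 5) ∧ G = ⊤) ∨
    ((Fintype.card α = 6 ∨ Fintype.card α = 7) ∧ G = alternatingGroup α) ∨
    (Fintype.card α = 11 ∧ Nat.card G = 7920) := by
  have hT := Cfsg.Agent.Lib.Helper04.Hall4.trans4_of_pretransitive G hG
  have hO := odd4_of G hG x hodd
  have hn := four_le_card_of_emb x
  have h01 : x 0 ≠ x 1 := x.injective.ne (by decide)
  have h02 : x 0 ≠ x 2 := x.injective.ne (by decide)
  have h03 : x 0 ≠ x 3 := x.injective.ne (by decide)
  have h12 : x 1 ≠ x 2 := x.injective.ne (by decide)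
  have h13 : x 1 ≠ x 3 := x.injective.ne (by decide)
  have h23 : x 2 ≠ x 3 := x.injective.ne (by decide)
  have hcard := Cfsg.Agent.Lib.Helper82.Hall4.card_eq_mul_FS G hG h01 h02 h03 h12 h13 h23
  have hoddh := hO _ _ _ _ h01 h02 h03 h12 h13 h23
  have hdvd : Nat.card G ∣ (Fintype.card α).factorial := by
    have := Subgroup.card_subgroup_dvd_card G
    rw [Nat.card_perm] at this
    rw [← Nat.card_eq_fintype_card]
    exact this
  by_cases h8 : 8 ≤ Fintype.card α
  · right; right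
    obtain ⟨h11, h1⟩ := main_ge_eight G hG hT hO h8 h01 h02 h03 h12 h13 h23
    refine ⟨h11, ?_⟩
    rw [hcard, h11, h1]
  · have hcases : Fintype.card α = 4 ∨ Fintype.card α = 5 ∨ Fintype.card α = 6 ∨
        Fintype.card α = 7 := by omega
    rcases hcases with h4 | h5 | h6 | h7
    · left
      refine ⟨Or.inl h4, Cfsg.Agent.Lib.Helper74.Hall4.eq_top_of_card G ?_⟩
      rw [h4] at hcard hdvd ⊢
      rw [hcard] at hdvd
      have h24 : (4 : ℕ).factorial = 24 * 1 := by decide
      rw [h24] at hdvd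
      have hd : Nat.card (FS G {x 0, x 1, x 2, x 3}) ∣ 1 :=
        Nat.dvd_of_mul_dvd_mul_left (by norm_num : 0 < 24) (by simpa using hdvd)
      have h1 : Nat.card (FS G {x 0, x 1, x 2, x 3}) = 1 := Nat.dvd_one.mp hd
      rw [hcard, h1]
      decide
    · left
      refine ⟨Or.inr h5, Cfsg.Agent.Lib.Helper74.Hall4.eq_top_of_card G ?_⟩
      rw [h5] at hcard hdvd ⊢
      rw [hcard] at hdvd
      have h120 : (5 : ℕ).factorial = 120 * 1 := by decide
      rw [h120] at hdvd
      have hd : Nat.card (FS G {x 0, x 1, x 2, x 3}) ∣ 1 :=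
        Nat.dvd_of_mul_dvd_mul_left (by norm_num : 0 < 120) (by simpa using hdvd)
      have h1 : Nat.card (FS G {x 0, x 1, x 2, x 3}) = 1 := Nat.dvd_one.mp hd
      rw [hcard, h1]
      decide
    · right; left
      refine ⟨Or.inl h6, Cfsg.Agent.Lib.Helper74.Hall4.eq_alternatingGroup_of_two_mul_card G ?_⟩
      rw [h6] at hcard hdvd ⊢
      rw [hcard] at hdvd
      have h720 : (6 : ℕ).factorial = 360 * 2 := by decide
      rw [h720] at hdvd
      have hd : Nat.card (FS G {x 0, x 1, x 2, x 3}) ∣ 2 :=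
        Nat.dvd_of_mul_dvd_mul_left (by norm_num : 0 < 360) (by simpa using hdvd)
      have h1 : Nat.card (FS G {x 0, x 1, x 2, x 3}) = 1 := odd_dvd_two hoddh hd
      rw [hcard, h1]
      decide
    · right; left
      refine ⟨Or.inr h7, Cfsg.Agent.Lib.Helper74.Hall4.eq_alternatingGroup_of_two_mul_card G ?_⟩
      have h3 := three_dvd_of_seven G hT hO h7 h01 h02 h03 h12 h13 h23
      rw [h7] at hcard hdvd ⊢
      rw [hcard] at hdvd
      have h5040 : (7 : ℕ).factorial = 840 * 6 := by decide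
      rw [h5040] at hdvd
      have hd : Nat.card (FS G {x 0, x 1, x 2, x 3}) ∣ 6 :=
        Nat.dvd_of_mul_dvd_mul_left (by norm_num : 0 < 840) (by simpa using hdvd)
      have h1 : Nat.card (FS G {x 0, x 1, x 2, x 3}) = 3 := odd_dvd_six hoddh hd h3
      rw [hcard, h1]
      decide

end Cfsg.Agent.Lib.Helper06.Hall4
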